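import Groth.Agent.Lib.Exchange.PicExact.Trans
import Groth.Agent.H95.UnitsSeq
import Groth.Prelude.Def_Coh

/-!
# The units/Picard exact sequence of a first order thickening
-/

set_option autoImplicit false
universe u

open CategoryTheory CategoryTheory.Limits AlgebraicGeometry Opposite TopologicalSpace CategoryTheory.Abelian

noncomputable section

namespace Groth.Agent.Lib.Exchange.PicExact

open Groth.Agent.Lib.ZarH1Units.Zar
open Groth.Agent.H95.UnitsSeq (phi shortExact)

variable {X : Scheme.{u}} (J : X.IdealSheafData) (hJ : J * J = ⊥)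

local notation "JJ" => Coh.toAb (ClSub.idealMod J)
local notation "hS" => shortExact J hJ

/-- global sections as `H⁰` -/
def sec0 (F : CohTop.Ab X.toTopCat) : sc F (⊤ : X.Opens) →+ CohTop.H F 0 :=
  AddMonoidHom.mk' (fun s => Ext.mk₀ ((Groth.Agent.Lib.ZarCoh.Basic.constEquiv F).symm s))
    fun a b => by rw [constEquiv_add, Ext.mk₀_add]

theorem sec0_bijective (F : CohTop.Ab X.toTopCat) : Function.Bijective (sec0 F) :=
  (Ext.mk₀_bijective _ _).comp (Groth.Agent.Lib.ZarCoh.Basic.constEquiv F).symm.bijective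

/-- global sections as `H⁰` -/
def sec0Equiv (F : CohTop.Ab X.toTopCat) : sc F (⊤ : X.Opens) ≃+ CohTop.H F 0 :=
  AddEquiv.ofBijective (sec0 F) (sec0_bijective F)

/-- `H⁰(J) → Γ(X, O)^×` -/
def epsHom : Multiplicative (Coh.HH X (ClSub.idealMod J) 0) →* (Γ(X, ⊤))ˣ :=
  AddMonoidHom.toMultiplicativeLeft
    ((AddMonoidHom.mk' (fun s : sc (UnitsSh.unitsAb X) (⊤ : X.Opens) =>
        Additive.ofMul (UnitsSh.unitOfSect (O := X.sheaf.obj) (U := op (⊤ : X.Opens)) s))
        fun _ _ => rfl).comp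
      (((phi J hJ).hom.app (op (⊤ : X.Opens))).hom.comp (sec0Equiv JJ).symm.toAddMonoidHom))

theorem epsHom_apply (x : Multiplicative (Coh.HH X (ClSub.idealMod J) 0)) :
    epsHom J hJ x = UnitsSh.unitOfSect (O := X.sheaf.obj) (U := op (⊤ : X.Opens))
      ((phi J hJ).hom.app (op (⊤ : X.Opens)) ((sec0Equiv JJ).symm x.toAdd)) := rfl

theorem epsHom_injective : Function.Injective (epsHom J hJ) := fun a b h => by
  rw [epsHom_apply, epsHom_apply] at h
  exact Multiplicative.toAdd.injective ((sec0Equiv JJ).symm.injective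
    (Groth.Agent.H95.UnitsSeq.phi_app_injective J hJ ⊤ h))

theorem epsHom_range : (epsHom J hJ).range = (Units.map J.subschemeι.appTop.hom.toMonoidHom).ker := by
  ext v
  constructor
  · rintro ⟨x, rfl⟩
    have h1 : (UnitsSh.comap J.subschemeι).hom.app (op (⊤ : X.Opens))
        ((phi J hJ).hom.app (op (⊤ : X.Opens)) ((sec0Equiv JJ).symm x.toAdd)) = 0 :=
      congr(($(Groth.Agent.H95.UnitsSeq.phi_comap J hJ)).hom.app (op (⊤ : X.Opens)) ((sec0Equiv JJ).symm x.toAdd))
    exact Units.ext ((Groth.Agent.H95.UnitsSeq.comap_app_eq_zero_iff J _).1 h1)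
  · intro hv
    obtain ⟨m, hm⟩ := Groth.Agent.H95.UnitsSeq.exists_of_comap_eq_zero J hJ
      (U := (⊤ : X.Opens)) (UnitsSh.sectOfUnit (O := X.sheaf.obj) v)
      ((Groth.Agent.H95.UnitsSeq.comap_app_eq_zero_iff J _).2 (congrArg Units.val hv))
    refine ⟨Multiplicative.ofAdd (sec0Equiv JJ m), ?_⟩
    rw [epsHom_apply, toAdd_ofAdd, AddEquiv.symm_apply_apply]
    exact congrArg (UnitsSh.unitOfSect (O := X.sheaf.obj)) hm

/-- units of `J.subscheme` as global sections of `i_* O_Z^×` -/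
def unitsSec : Additive (Γ(J.subscheme, ⊤))ˣ →+ sc (G J.subschemeι) (⊤ : X.Opens) :=
  AddMonoidHom.mk' (fun v => UnitsSh.sectOfUnit (O := J.subschemeι.base _* (J.subscheme).presheaf) (U := op (⊤ : X.Opens)) v.toMul)
    fun _ _ => rfl

theorem unitsSec_bijective : Function.Bijective (unitsSec J) :=
  Function.bijective_iff_has_inverse.2
    ⟨fun s => Additive.ofMul (UnitsSh.unitOfSect (O := J.subschemeι.base _* (J.subscheme).presheaf) (U := op (⊤ : X.Opens)) s),
      fun _ => rfl, fun _ => rfl⟩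

/-- `Γ(J.subscheme, O)^× → H¹(J)` -/
def delta0 : (Γ(J.subscheme, ⊤))ˣ →* Multiplicative (Coh.HH X (ClSub.idealMod J) 1) :=
  AddMonoidHom.toMultiplicativeRight ((δ hS).comp (unitsSec J))

theorem delta0_ker : (delta0 J hJ).ker = (Units.map J.subschemeι.appTop.hom.toMonoidHom).range := by
  ext v
  refine Iff.trans (MonoidHom.mem_ker) ?_
  refine Iff.trans (show delta0 J hJ v = 1 ↔ δ hS (unitsSec J (Additive.ofMul v)) = 0 from Iff.rfl) ?_
  rw [δ_eq_zero_iff]
  constructor
  · rintro ⟨t, ht⟩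
    exact ⟨UnitsSh.unitOfSect (O := X.sheaf.obj) (U := op (⊤ : X.Opens)) t,
      congrArg (UnitsSh.unitOfSect (O := J.subschemeι.base _* (J.subscheme).presheaf)) ht⟩
  · rintro ⟨w, rfl⟩
    exact ⟨UnitsSh.sectOfUnit (O := X.sheaf.obj) (U := op (⊤ : X.Opens)) w, rfl⟩

variable [PicGrp.Law X]

/-- `H¹(J) → H¹(O^×)` -/
def phi1 (q : ℕ) : CohTop.H JJ q →+ CohTop.H (UnitsSh.unitsAb X) q :=
  (Ext.mk₀ (phi J hJ)).postcomp _ (add_zero q)

/-- `H¹(J) → Pic X` -/
def alphaHom : Multiplicative (Coh.HH X (ClSub.idealMod J) 1) →* PicLoc.PicSet X :=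
  AddMonoidHom.toMultiplicativeLeft ((picH X).symm.toAddMonoidHom.comp (phi1 J hJ 1))

theorem alphaHom_apply (x : Multiplicative (Coh.HH X (ClSub.idealMod J) 1)) :
    picH X (Additive.ofMul (alphaHom J hJ x)) = phi1 J hJ 1 x.toAdd :=
  (picH X).apply_symm_apply _

theorem alphaHom_eq_one_iff (x : Multiplicative (Coh.HH X (ClSub.idealMod J) 1)) :
    alphaHom J hJ x = 1 ↔ phi1 J hJ 1 x.toAdd = 0 := by
  rw [← alphaHom_apply J hJ, AddEquiv.map_eq_zero_iff]
  exact Iff.rfl

theorem alphaHom_ker : (alphaHom J hJ).ker = (delta0 J hJ).range := by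
  ext x
  rw [MonoidHom.mem_ker, alphaHom_eq_one_iff]
  constructor
  · intro h
    obtain ⟨y, hy⟩ := Ext.covariant_sequence_exact₁ _ hS x.toAdd h (zero_add 1)
    obtain ⟨s, rfl⟩ := (sec0_bijective (G J.subschemeι)).2 y
    obtain ⟨v, rfl⟩ := (unitsSec_bijective J).2 s
    exact ⟨v.toMul, Multiplicative.toAdd.injective hy⟩
  · rintro ⟨v, rfl⟩
    show ((sec0 (G J.subschemeι) (unitsSec J (Additive.ofMul v))).comp (hS).extClass (zero_add 1)).comp
      (Ext.mk₀ (phi J hJ)) (add_zero 1) = 0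
    rw [Ext.comp_assoc_of_third_deg_zero, (hS).extClass_comp, Ext.comp_zero]

section
variable [PicGrp.Law J.subscheme] (hi : PicGrp.PullMul J.subschemeι)

theorem pullHom_eq_one_iff (a : PicLoc.PicSet X) :
    PicGrp.pullHom J.subschemeι hi a = 1 ↔ res J.subschemeι (picH X (Additive.ofMul a)) = 0 := by
  have h := picH_pullHom J.subschemeι hi a
  rw [← (θ_bijective J.subschemeι).1.eq_iff (b := (0 : CohTop.H (G J.subschemeι) 1)), map_zero, ← h,
    AddEquiv.map_eq_zero_iff]
  exact Iff.rfl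

theorem pullHom_ker : (PicGrp.pullHom J.subschemeι hi).ker = (alphaHom J hJ).range := by
  ext a
  rw [MonoidHom.mem_ker, pullHom_eq_one_iff]
  constructor
  · intro h
    obtain ⟨x, hx⟩ := Ext.covariant_sequence_exact₂ _ hS (picH X (Additive.ofMul a)) h
    refine ⟨Multiplicative.ofAdd x, Additive.ofMul.injective ((picH X).injective ?_)⟩
    rw [alphaHom_apply]
    exact hx
  · rintro ⟨x, rfl⟩
    rw [alphaHom_apply]
    refine (Ext.comp_assoc_of_third_deg_zero _ _ _ (add_zero 1)).trans ?_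
    rw [Ext.mk₀_comp_mk₀, Groth.Agent.H95.UnitsSeq.phi_comap, Ext.mk₀_zero, Ext.comp_zero]

/-- `θ` as an equivalence -/
def θEquiv : CohTop.H (G J.subschemeι) 1 ≃+ CohTop.H (UnitsSh.unitsAb J.subscheme) 1 :=
  AddEquiv.ofBijective (θ J.subschemeι) (θ_bijective J.subschemeι)

/-- `Pic J.subscheme → H²(J)` -/
def delta1 : PicLoc.PicSet J.subscheme →* Multiplicative (Coh.HH X (ClSub.idealMod J) 2) :=
  AddMonoidHom.toMultiplicativeRight
    (((hS).extClass.postcomp _ (rfl : 1 + 1 = 2)).comp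
      ((θEquiv J).symm.toAddMonoidHom.comp (picH J.subscheme).toAddMonoidHom))

theorem delta1_ker : (delta1 J hJ).ker = (PicGrp.pullHom J.subschemeι hi).range := by
  ext b
  rw [MonoidHom.mem_ker]
  refine Iff.trans (show delta1 J hJ b = 1 ↔
    ((θEquiv J).symm (picH J.subscheme (Additive.ofMul b))).comp (hS).extClass (rfl : 1 + 1 = 2) = 0 from Iff.rfl) ?_
  constructor
  · intro h
    obtain ⟨c, hc⟩ := Ext.covariant_sequence_exact₃ _ hS _ (rfl : 1 + 1 = 2) h
    refine ⟨((picH X).symm c).toMul, Additive.ofMul.injective ((picH J.subscheme).injective ?_)⟩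
    rw [picH_pullHom, ofMul_toMul, AddEquiv.apply_symm_apply]
    exact (congrArg (θEquiv J) hc).trans ((θEquiv J).apply_symm_apply _)
  · rintro ⟨a, rfl⟩
    rw [picH_pullHom]
    refine (congrArg (fun t => Ext.comp t (hS).extClass (rfl : 1 + 1 = 2))
      ((θEquiv J).symm_apply_apply _)).trans ?_
    refine (Ext.comp_assoc_of_second_deg_zero _ _ _ rfl).trans ?_
    rw [(hS).comp_extClass, Ext.comp_zero]

end

end Groth.Agent.Lib.Exchange.PicExact
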