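import Groth.Agent.Lib.ZarH1Units.Pic
import Groth.Agent.H95.Units.ClosedPush
import Groth.Agent.Lib.CohDelta.BC.EpsV
import Groth.Agent.Lib.CohDelta.BC.Along
import Groth.Agent.Lib.Ample.GenLocus
import Groth.Prelude.Def_PicGrp

/-!
# `H¹(X, i_* O_Z^×) ≅ H¹(Z, O_Z^×)` for a universal homeomorphism closed immersion, and pullback of classes
-/

set_option autoImplicit false
universe u

open CategoryTheory CategoryTheory.Limits AlgebraicGeometry Opposite TopologicalSpace CategoryTheory.Abelian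

noncomputable section

namespace Groth.Agent.Lib.Exchange.PicExact

open Groth.Agent.Lib.ZarH1Units.Zar Groth.Agent.Lib.ZarH1Units.Pic
open Groth.Agent.Lib.TensorMod Groth.Agent.Lib.TensorMod.Gen Groth.Agent.Lib.TensorMod.Dual
  Groth.Agent.Lib.TensorMod.Pullback Groth.Agent.Lib.Ample.GenLocus

variable {X Z : Scheme.{u}} (i : Z ⟶ X)

/-- units of `Z` on `X` -/
abbrev G : CohTop.Ab X.toTopCat := (CohTop.push i.base).obj (UnitsSh.unitsAb Z)

variable [IsClosedImmersion i]

/-- the pushed injective embedding -/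
abbrev S' : ShortComplex (CohTop.Ab X.toTopCat) :=
  haveI := (H95.Units.ClosedPush.push_preservesFiniteLimits_and_colimits (f := i.base) i.isClosedEmbedding).1
  (seq (UnitsSh.unitsAb Z)).map (CohTop.push i.base)

theorem shortExact' : (S' i).ShortExact :=
  haveI := (H95.Units.ClosedPush.push_preservesFiniteLimits_and_colimits (f := i.base) i.isClosedEmbedding).1
  haveI := (H95.Units.ClosedPush.push_preservesFiniteLimits_and_colimits (f := i.base) i.isClosedEmbedding).2
  (seq_shortExact (UnitsSh.unitsAb Z)).map_of_exact _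

instance : Injective (S' i).X₂ :=
  haveI : (CohTop.pull i.base).PreservesMonomorphisms := inferInstance
  Injective.injective_of_adjoint (Groth.Agent.Lib.ZarCoh.Compare.ppAdj i.base) _

/-- boundary on `X` -/
def δX : sc (QQ Z) (⊤ : Z.Opens) →+ CohTop.H (G i) 1 := δ (shortExact' i)

/-- boundary on `Z` -/
def δZ : sc (QQ Z) (⊤ : Z.Opens) →+ CohTop.H (UnitsSh.unitsAb Z) 1 :=
  δ (seq_shortExact (UnitsSh.unitsAb Z))

theorem δX_eq_zero_iff (q : sc (QQ Z) (⊤ : Z.Opens)) : δX i q = 0 ↔ δZ (Z := Z) q = 0 :=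
  (δ_eq_zero_iff (shortExact' i) q).trans (δ_eq_zero_iff (seq_shortExact (UnitsSh.unitsAb Z)) q).symm

theorem δX_surjective : Function.Surjective (δX i) := δ_surjective (shortExact' i)

/-- `H¹(X, i_* O_Z^×) → H¹(Z, O_Z^×)` -/
def θ : CohTop.H (G i) 1 →+ CohTop.H (UnitsSh.unitsAb Z) 1 :=
  (δX i).liftOfRightInverse (Function.surjInv (δX_surjective i))
    (Function.rightInverse_surjInv (δX_surjective i))
    ⟨δZ, fun q hq => (δX_eq_zero_iff i q).1 hq⟩

theorem θ_δX (q : sc (QQ Z) (⊤ : Z.Opens)) : θ i (δX i q) = δZ q :=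
  AddMonoidHom.liftOfRightInverse_comp_apply _ _ _ _ q

theorem θ_bijective : Function.Bijective (θ i) := by
  refine ⟨(injective_iff_map_eq_zero _).2 fun x hx => ?_, fun y => ?_⟩
  · obtain ⟨q, rfl⟩ := δX_surjective i x
    rw [θ_δX] at hx
    exact (δX_eq_zero_iff i q).2 hx
  · obtain ⟨q, rfl⟩ := δ_surjective (seq_shortExact (UnitsSh.unitsAb Z)) y
    exact ⟨δX i q, θ_δX i q⟩

/-- restriction of classes -/
def res (c : CohTop.H (UnitsSh.unitsAb X) 1) : CohTop.H (G i) 1 :=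
  c.comp (Ext.mk₀ (UnitsSh.comap i)) (add_zero 1)

/-- restriction of classes is pullback of modules -/
theorem rel_pullback {c : CohTop.H (UnitsSh.unitsAb X) 1} {L : X.Modules} (h : Rel c L) :
    Rel (θ i (res i c)) ((Scheme.Modules.pullback i).obj L) := by
  obtain ⟨D⟩ := h
  obtain ⟨τ₂, τ₃, h₁, h₂⟩ := Groth.Agent.Lib.CohDelta.BC.Along.exists_extend i.base (UnitsSh.comap i)
  let τ : seq (UnitsSh.unitsAb X) ⟶ S' i := ⟨UnitsSh.comap i, τ₂, τ₃, h₁, h₂⟩
  choose x hx using fun z : Z => (⟨i.base z, rfl⟩ : ∃ x : X, x = i.base z)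
  let q' : sc (QQ Z) (⊤ : Z.Opens) := τ₃.hom.app (op (⊤ : X.Opens)) D.q
  have hc : res i c = δX i q' := by
    rw [res, ← D.δq]
    have h3 := Groth.Agent.Lib.CohDelta.BC.EpsV.extClass_natural
      (seq_shortExact (UnitsSh.unitsAb X)) (shortExact' i) τ
      (Ext.mk₀ ((Groth.Agent.Lib.ZarCoh.Basic.constEquiv _).symm D.q))
    refine h3.trans ?_
    show _ = δ (shortExact' i) q'
    rw [δ_apply, Ext.mk₀_comp_mk₀]
    congr 2
    apply (Groth.Agent.Lib.ZarCoh.Basic.constEquiv _).injective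
    refine (Groth.Agent.Lib.ZarCoh.Basic.constEquiv_comp _ _).trans ?_
    rw [Equiv.apply_symm_apply, Equiv.apply_symm_apply]
    rfl
  refine ⟨⟨fun z => i ⁻¹ᵁ D.U (x z), fun z => ?_, q', (θ_δX i q').symm.trans (congrArg (θ i) hc.symm),
    fun z => τ₂.hom.app (op (D.U (x z))) (D.r (x z)), fun z => ?_,
    fun z => unitSec i L (D.e (x z)), fun z => isGen_unitSec i (D.gen (x z)), ?_⟩⟩
  · show i.base z ∈ D.U (x z)
    rw [← hx z]
    exact D.mem _
  · have h4 := congr(($h₂).hom.app (op (D.U (x z))) (D.r (x z)))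
    refine Eq.trans ?_ ((congrArg (τ₃.hom.app (op (D.U (x z)))) (D.hr (x z))).trans ?_)
    · exact h4
    · exact app_rtop τ₃ (D.U (x z)) D.q
  · intro a b W ha hb v hv
    obtain ⟨W₀, hW₀, hWW⟩ := i.isClosedEmbedding.isInducing.isOpen_iff.1 W.2
    let V : X.Opens := ⟨W₀, hW₀⟩ ⊓ (D.U (x a) ⊓ D.U (x b))
    have hva : V ≤ D.U (x a) := inf_le_right.trans inf_le_left
    have hvb : V ≤ D.U (x b) := inf_le_right.trans inf_le_right
    have hWeq : W = i ⁻¹ᵁ V := by
      apply Opens.ext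
      apply Set.ext
      intro z
      constructor
      · exact fun hz => ⟨hWW.ge hz, ha hz, hb hz⟩
      · exact fun hz => hWW.le hz.1
    subst hWeq
    obtain ⟨w, hw⟩ := exists_inc_eq (r := rsc (II X) hva (D.r (x a)) - rsc (II X) hvb (D.r (x b)))
      (by rw [map_sub, pr_rsc, pr_rsc, D.hr, D.hr, rsc_rtop, rsc_rtop, sub_self])
    have hv' : v = (UnitsSh.comap i).hom.app (op V) w := by
      apply inc_injective
      refine hv.trans ?_
      have h5 := congr(($h₁).hom.app (op V) w)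
      refine Eq.trans ?_ h5.symm
      show _ = τ₂.hom.app (op V) (inc w)
      rw [hw, map_sub, app_rsc, app_rsc]
      rfl
    have h6 := D.compat (x a) (x b) V hva hvb w hw
    have h7 := congrArg (unitSec i L) h6
    rw [unitSec_smul, ← unitSec_rs, ← unitSec_rs] at h7
    refine h7.trans ?_
    rw [hv']
    rfl

end Groth.Agent.Lib.Exchange.PicExact

namespace Groth.Agent.Lib.Exchange.PicExact

open Groth.Agent.Lib.ZarH1Units.Pic

variable (X : Scheme.{u}) [PicGrp.Law X]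

theorem exists_picH : ∃ f : Additive (PicLoc.PicSet X) ≃+ CohTop.H (UnitsSh.unitsAb X) 1,
    ∀ (L : X.Modules) (hL : PicF.IsInvertible L), Rel (f (Additive.ofMul (PicGrp.cls L hL))) L := by
  have key : ∀ a : PicLoc.PicSet X, ∃ c : CohTop.H (UnitsSh.unitsAb X) 1,
      ∀ (L : X.Modules) (hL : PicF.IsInvertible L), a = PicGrp.cls L hL → Rel c L := by
    intro a
    obtain ⟨L₀, hL₀, rfl⟩ := PicGrp.exists_eq_cls a
    obtain ⟨c, hc⟩ := exists_rel' hL₀
    refine ⟨c, fun L hL he => ?_⟩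
    obtain ⟨c', hc'⟩ := exists_rel' hL
    rwa [(hc.eq_iff hc').2 ((PicGrp.cls_eq_cls_iff hL₀ hL).1 he)]
  choose f hf using key
  have hadd : ∀ a b : PicLoc.PicSet X, f (a * b) = f a + f b := by
    intro a b
    obtain ⟨L, hL, rfl⟩ := PicGrp.exists_eq_cls a
    obtain ⟨M, hM, rfl⟩ := PicGrp.exists_eq_cls b
    obtain ⟨N, hN, he⟩ := PicGrp.exists_eq_cls (PicGrp.cls L hL * PicGrp.cls M hM)
    refine ((hf _ N hN he).eq_iff ((hf _ L hL rfl).add (hf _ M hM rfl))).2 ?_
    refine (PicGrp.cl_eq_cl_iff _ _).1 ?_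
    rw [← PicGrp.cls_val N hN, ← he, PicGrp.mul_val]
    rfl
  refine ⟨AddEquiv.ofBijective (AddMonoidHom.mk' (fun a => f (Additive.toMul a))
    fun a b => hadd _ _) ⟨fun a b hab => ?_, fun c => ?_⟩, fun L hL => hf _ L hL rfl⟩
  · change f (Additive.toMul a) = f (Additive.toMul b) at hab
    obtain ⟨L, hL, ha⟩ := PicGrp.exists_eq_cls (Additive.toMul a)
    obtain ⟨M, hM, hb⟩ := PicGrp.exists_eq_cls (Additive.toMul b)
    refine Additive.toMul.injective ?_
    rw [ha, hb]
    exact (PicGrp.cls_eq_cls_iff hL hM).2 (((hf _ L hL ha).eq_iff (hf _ M hM hb)).1 hab)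
  · obtain ⟨L, hL⟩ := exists_rel c
    exact ⟨Additive.ofMul (PicGrp.cls L hL.isInvertible),
      ((hf _ L hL.isInvertible rfl).eq_iff hL).2 ⟨Iso.refl _⟩⟩

/-- `Pic X ≅ H¹(X, O^×)`, sending a module to its class -/
def picH : Additive (PicLoc.PicSet X) ≃+ CohTop.H (UnitsSh.unitsAb X) 1 := (exists_picH X).choose

theorem rel_picH (L : X.Modules) (hL : PicF.IsInvertible L) :
    Rel (picH X (Additive.ofMul (PicGrp.cls L hL))) L :=
  (exists_picH X).choose_spec L hL

variable {X} {Z : Scheme.{u}} [PicGrp.Law Z] (i : Z ⟶ X) [IsClosedImmersion i]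

theorem picH_pullHom (hi : PicGrp.PullMul i) (a : PicLoc.PicSet X) :
    picH Z (Additive.ofMul (PicGrp.pullHom i hi a)) = θ i (res i (picH X (Additive.ofMul a))) := by
  obtain ⟨L, hL, rfl⟩ := PicGrp.exists_eq_cls a
  have hr := rel_pullback i (rel_picH X L hL)
  have h' : PicGrp.pullHom i hi (PicGrp.cls L hL) =
      PicGrp.cls ((Scheme.Modules.pullback i).obj L) hr.isInvertible := Subtype.ext rfl
  rw [h']
  exact ((rel_picH Z _ hr.isInvertible).eq_iff hr).2 ⟨Iso.refl _⟩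

end Groth.Agent.Lib.Exchange.PicExact
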